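import Groth.Agent.HensSch7.HfpLocal.Saw

/-!
Commuting with filtered colimits of henselian algebras is local for henselized localizations.
-/

set_option autoImplicit false
set_option linter.style.haveILetI false
universe u

open scoped TensorProduct

namespace Groth.Agent.HensSch7.HfpLocal

open Hensel

variable {A : Type u} [CommRing A] {I : Ideal A}

theorem exists_stage_eq {κ : Type u} [Preorder κ] [IsDirectedOrder κ] [Nonempty κ]
    {G : κ → Type u} [∀ a, CommRing (G a)] {t : ∀ a b : κ, a ≤ b → (G a →+* G b)}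
    [DirectedSystem G (fun a b hab => t a b hab)] {a b : κ} {x : G a} {y : G b}
    (h : DirectLimit.Ring.of G t a x = DirectLimit.Ring.of G t b y) :
    ∃ (c : κ) (ha : a ≤ c) (hb : b ≤ c), t a c ha x = t b c hb y :=
  Quotient.exact h

theorem exists_forall_le {κ : Type u} [Preorder κ] [IsDirectedOrder κ] [Nonempty κ] {ι : Type*} [Finite ι]
    (b : κ) (a : ι → κ) : ∃ c, b ≤ c ∧ ∀ i, a i ≤ c := by
  obtain ⟨c, hc⟩ := Finite.exists_le (α := κ) (fun o : Option ι => o.elim b a)
  exact ⟨c, hc none, fun i => hc (some i)⟩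

section sys

variable (I) {κ : Type u} [Preorder κ] [IsDirectedOrder κ] [Nonempty κ]
  {Ra : κ → Type u} [∀ a, CommRing (Ra a)] [∀ a, Algebra A (Ra a)]
  (t : ∀ a b : κ, a ≤ b → (Ra a →+* Ra b)) [DirectedSystem Ra (fun a b hab => t a b hab)]
  [Fact (∀ (a b : κ) (hab : a ≤ b), (t a b hab).comp (algebraMap A (Ra a)) = algebraMap A (Ra b))]
  [Algebra A (DirectLimit Ra t)] {a₀ : κ} (g₀ : Ra a₀)

/-- the canonical map into the limit of henselized localizations -/
theorem exists_toLim (halg : ∀ (a : κ) (x : A), algebraMap A (DirectLimit Ra t) x =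
      DirectLimit.Ring.of Ra t a (algebraMap A (Ra a) x)) :
    ∃ T : DirectLimit Ra t →ₐ[A] SawLim I t g₀, ∀ (b : Above a₀) (r : Ra b.1),
      T (DirectLimit.Ring.of Ra t b.1 r) =
        DirectLimit.Ring.of (SawAt I t g₀) (sRing I t g₀) b (algebraMap (Ra b.1) (SawAt I t g₀ b) r) := by
  choose up hup₀ hup₁ using fun a : κ => exists_ge_ge a₀ a
  let o := DirectLimit.Ring.of (SawAt I t g₀) (sRing I t g₀)
  have key : ∀ (a : κ) (b : Above a₀) (h : a ≤ b.1) (r : Ra a),
      o ⟨up a, hup₀ a⟩ (algebraMap _ _ (t a (up a) (hup₁ a) r)) = o b (algebraMap _ _ (t a b.1 h r)) := by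
    intro a b h r
    obtain ⟨c, hc₁, hc₂⟩ := exists_ge_ge (⟨up a, hup₀ a⟩ : Above a₀) b
    rw [show o = DirectLimit.Ring.of (SawAt I t g₀) (sRing I t g₀) from rfl,
      ← DirectLimit.Ring.of_f (f := sRing I t g₀) hc₁, ← DirectLimit.Ring.of_f (f := sRing I t g₀) hc₂]
    congr 1
    show sMap I t g₀ _ _ hc₁ _ = sMap I t g₀ _ _ hc₂ _
    rw [sMap_algebraMap, sMap_algebraMap]
    congr 1
    exact (DirectedSystem.map_map (f := fun a b hab => t a b hab) (hup₁ a) hc₁ r).trans
      (DirectedSystem.map_map (f := fun a b hab => t a b hab) h hc₂ r).symm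
  let T₀ : DirectLimit Ra t →+* SawLim I t g₀ :=
    DirectLimit.Ring.lift Ra t (SawLim I t g₀)
      (fun a => (o ⟨up a, hup₀ a⟩).comp ((algebraMap (Ra (up a)) (SawAt I t g₀ ⟨up a, hup₀ a⟩)).comp (t a (up a) (hup₁ a))))
      (fun a a' h r => by
        show o ⟨up a', hup₀ a'⟩ (algebraMap _ _ (t a' (up a') (hup₁ a') (t a a' h r))) =
          o ⟨up a, hup₀ a⟩ (algebraMap _ _ (t a (up a) (hup₁ a) r))
        rw [key a ⟨up a', hup₀ a'⟩ (h.trans (hup₁ a')) r]
        congr 2
        exact DirectedSystem.map_map (f := fun a b hab => t a b hab) h (hup₁ a') r)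
  have hT : ∀ (b : Above a₀) (r : Ra b.1), T₀ (DirectLimit.Ring.of Ra t b.1 r) = o b (algebraMap _ _ r) :=
    fun b r => (key b.1 b le_rfl r).trans (by rw [DirectedSystem.map_self (f := fun a b hab => t a b hab) r])
  refine ⟨{ T₀ with commutes' := fun x => ?_ }, hT⟩
  show T₀ (algebraMap A (DirectLimit Ra t) x) = _
  rw [halg a₀, hT ⟨a₀, le_rfl⟩, algebraMap_sawLim I t g₀ ⟨a₀, le_rfl⟩]
  rfl

/-- the limit map as an `A`-algebra map -/
noncomputable def toLimA (b : Above a₀) : SawAt I t g₀ b →ₐ[A] SawLim I t g₀ :=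
  { DirectLimit.Ring.of (SawAt I t g₀) (sRing I t g₀) b with
    commutes' := fun x => (algebraMap_sawLim I t g₀ b x).symm }

theorem isUnit_base : IsUnit (algebraMap (Ra a₀) (SawAt I t g₀ ⟨a₀, le_rfl⟩) g₀) :=
  (congrArg (fun z => IsUnit (algebraMap (Ra a₀) (SawAt I t g₀ ⟨a₀, le_rfl⟩) z))
    (DirectedSystem.map_self (f := fun a b hab => t a b hab) g₀)).mp (isUnit_saw I (gAt t g₀ ⟨a₀, le_rfl⟩))

variable (g₁ : Ra a₀)

theorem isUnit_left (b : Above a₀) : IsUnit (algebraMap (Ra b.1) (SawAt I t (g₀ * g₁) b) (gAt t g₀ b)) := by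
  refine isUnit_of_mul_isUnit_left (y := algebraMap (Ra b.1) (SawAt I t (g₀ * g₁) b) (gAt t g₁ b)) ?_
  rw [← map_mul, show gAt t g₀ b * gAt t g₁ b = gAt t (g₀ * g₁) b from (map_mul (t a₀ b.1 b.2) g₀ g₁).symm]
  exact isUnit_saw I _

theorem isUnit_right (b : Above a₀) : IsUnit (algebraMap (Ra b.1) (SawAt I t (g₀ * g₁) b) (gAt t g₁ b)) := by
  refine isUnit_of_mul_isUnit_right (x := algebraMap (Ra b.1) (SawAt I t (g₀ * g₁) b) (gAt t g₀ b)) ?_
  rw [← map_mul, show gAt t g₀ b * gAt t g₁ b = gAt t (g₀ * g₁) b from (map_mul (t a₀ b.1 b.2) g₀ g₁).symm]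
  exact isUnit_saw I _

/-- finer localizations -/
theorem exists_res (g g' : Ra a₀) (hu : ∀ b : Above a₀, IsUnit (algebraMap (Ra b.1) (SawAt I t g' b) (gAt t g b))) :
    ∃ μ : ∀ b, SawAt I t g b →ₐ[A] SawAt I t g' b,
      (∀ b r, μ b (algebraMap (Ra b.1) (SawAt I t g b) r) = algebraMap (Ra b.1) (SawAt I t g' b) r) ∧
      (∀ b c (h : b ≤ c) x, μ c (sMap I t g b c h x) = sMap I t g' b c h (μ b x)) ∧
      ∃ M : SawLim I t g →ₐ[A] SawLim I t g', ∀ b x, M (toLimA I t g b x) = toLimA I t g' b (μ b x) := by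
  choose μ hμ _ using fun b => existsUnique_saw I (gAt t g b) (IsScalarTower.toAlgHom A (Ra b.1) (SawAt I t g' b)) (hu b)
  have hμr : ∀ b r, μ b (algebraMap (Ra b.1) (SawAt I t g b) r) = algebraMap (Ra b.1) (SawAt I t g' b) r := hμ
  have hcomp : ∀ b c (h : b ≤ c) x, μ c (sMap I t g b c h x) = sMap I t g' b c h (μ b x) := fun b c h =>
    AlgHom.congr_fun (saw_hom_ext I _ (h := (μ c).comp (sMap I t g b c h))
      (h' := (sMap I t g' b c h).comp (μ b)) fun r => by
      rw [AlgHom.comp_apply, AlgHom.comp_apply, sMap_algebraMap, hμr, hμr, sMap_algebraMap])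
  refine ⟨μ, hμr, hcomp, ?_⟩
  let M₀ : SawLim I t g →+* SawLim I t g' :=
    DirectLimit.Ring.lift (SawAt I t g) (sRing I t g) (SawLim I t g')
      (fun b => ((toLimA I t g' b).comp (μ b) : SawAt I t g b →+* SawLim I t g'))
      (fun b c h x => by
        show DirectLimit.Ring.of _ (sRing I t g') c (μ c (sMap I t g b c h x)) =
          DirectLimit.Ring.of _ (sRing I t g') b (μ b x)
        rw [hcomp]
        exact DirectLimit.Ring.of_f (f := sRing I t g') h _)
  refine ⟨{ M₀ with commutes' := fun x => ?_ }, fun b x => rfl⟩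
  show M₀ (algebraMap A (SawLim I t g) x) = _
  rw [algebraMap_sawLim I t g ⟨a₀, le_rfl⟩]
  show toLimA I t g' ⟨a₀, le_rfl⟩ (μ ⟨a₀, le_rfl⟩ (algebraMap A _ x)) = _
  rw [AlgHom.commutes, AlgHom.commutes]

end sys

theorem commutesColim_of_cover {B : Type u} [CommRing B] [Algebra A B] {ι : Type u} [Finite ι] (f : ι → B)
    (hf : Ideal.span (Set.range f) = ⊤) (H : ι → Type u) [∀ i, CommRing (H i)] [∀ i, Algebra A (H i)]
    [∀ i, Algebra B (H i)] [∀ i, IsScalarTower A B (H i)]
    (hH : ∀ i, HensSch.IsHensAway B (I.map (algebraMap A B)) (f i) (H i) (algebraMap B (H i)))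
    (hcol : ∀ i, CommutesColim I (H i)) : CommutesColim I B := by
  classical
  have := Fintype.ofFinite ι
  -- maps out of the henselized localizations
  have hlift : ∀ (i : ι) (C : Type u) [CommRing C] [Algebra A C] [HenselianRing C (I.map (algebraMap A C))]
      (φ : B →ₐ[A] C), IsUnit (φ (f i)) → ∃ ψ : H i →ₐ[A] C, ∀ x, ψ (algebraMap B (H i) x) = φ x := by
    intro i C _ _ _ φ hu
    obtain ⟨h, hh, -⟩ := (hH i).2.2 C (I.map (algebraMap A C)) (φ : B →+* C) inferInstance
      (by rw [Ideal.map_map, AlgHom.comp_algebraMap]) hu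
    refine ⟨{ h with commutes' := fun a => ?_ }, fun x => congr($hh x)⟩
    show h (algebraMap A (H i) a) = algebraMap A C a
    rw [IsScalarTower.algebraMap_apply A B (H i)]
    exact (congr($hh (algebraMap A B a))).trans (φ.commutes a)
  have hext : ∀ (i : ι) (C : Type u) [CommRing C] [Algebra A C] [HenselianRing C (I.map (algebraMap A C))]
      (φ ψ : H i →ₐ[A] C), (∀ x, φ (algebraMap B (H i) x) = ψ (algebraMap B (H i) x)) → φ = ψ := by
    intro i C _ _ _ φ ψ e
    obtain ⟨h, -, huniq⟩ := (hH i).2.2 C (I.map (algebraMap A C))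
      ((φ : H i →+* C).comp (algebraMap B (H i))) inferInstance
      (by rw [Ideal.map_map, RingHom.comp_assoc, ← IsScalarTower.algebraMap_eq, AlgHom.comp_algebraMap])
      ((hH i).1.map φ)
    exact AlgHom.coe_ringHom_injective ((huniq (φ : H i →+* C) rfl).trans
      (huniq (ψ : H i →+* C) (RingHom.ext fun x => (e x).symm)).symm)
  intro κ _ _ _ Ra _ _ _ t _ ht _ halg
  haveI : Fact (∀ (a b : κ) (hab : a ≤ b), (t a b hab).comp (algebraMap A (Ra a)) = algebraMap A (Ra b)) := ⟨ht⟩
  -- stagewise uniqueness and gluing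
  have hspan : ∀ {a₀ : κ} (g c : ι → Ra a₀), ∑ i, c i * g i = 1 → ∀ b : Above a₀,
      Ideal.span (Set.range fun i => gAt t (g i) b) = ⊤ := by
    intro a₀ g c hc b
    rw [Ideal.eq_top_iff_one, ← map_one (t a₀ b.1 b.2), ← hc, map_sum]
    exact Ideal.sum_mem _ fun i _ => by rw [map_mul]; exact Ideal.mul_mem_left _ _ (Ideal.subset_span ⟨i, rfl⟩)
  have huniq : ∀ {a₀ : κ} (g c : ι → Ra a₀), ∑ i, c i * g i = 1 → ∀ (b : Above a₀) (y y' : Ra b.1),
      (∀ i, algebraMap (Ra b.1) (SawAt I t (g i) b) y = algebraMap (Ra b.1) (SawAt I t (g i) b) y') → y = y' := by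
    intro a₀ g c hc b y y' e
    obtain ⟨x, -, hx⟩ := HGlue.existsUnique (A := Ra b.1) (M := Ra b.1) (I := I.map (algebraMap A (Ra b.1)))
      (fun i => gAt t (g i) b) (fun i => SawAt I t (g i) b) (fun i => isHensAway I _) (hspan g c hc b)
      (fun i => (1 : SawAt I t (g i) b) ⊗ₜ[Ra b.1] y) (fun i j => by
        obtain ⟨μ, hμ, -⟩ := exists_res I t (g i) (g i * g j) (isUnit_left I t (g i) (g j))
        obtain ⟨ν, hν, -⟩ := exists_res I t (g j) (g i * g j) (isUnit_right I t (g i) (g j))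
        exact ⟨SawAt I t (g i * g j) b, inferInstance, inferInstance,
          by rw [← map_mul]; exact isHensAway I (gAt t (g i * g j) b),
          { (μ b : SawAt I t (g i) b →+* SawAt I t (g i * g j) b) with commutes' := hμ b },
          { (ν b : SawAt I t (g j) b →+* SawAt I t (g i * g j) b) with commutes' := hν b }, by simp [HGlue.mapM]⟩)
    refine (hx y fun i => rfl).trans (hx y' fun i => ?_).symm
    rw [show y' = y' • (1 : Ra b.1) by simp, show y = y • (1 : Ra b.1) by simp, ← TensorProduct.smul_tmul,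
      ← TensorProduct.smul_tmul, Algebra.smul_def, Algebra.smul_def, mul_one, mul_one, e]
  refine ⟨fun χ => ?_, fun a φ ψ hφψ => ?_⟩
  · -- a common stage
    obtain ⟨cB, hcB⟩ := Ideal.mem_span_range_iff_exists_fun.1 (hf ▸ Submodule.mem_top : (1 : B) ∈ Ideal.span (Set.range f))
    have hof : ∀ z : DirectLimit Ra t, ∃ (a : κ) (r : Ra a), DirectLimit.Ring.of Ra t a r = z := fun z => by
      induction z using DirectLimit.induction with
      | _ a r => exact ⟨a, r, rfl⟩
    choose ag rg hrg using fun i => hof (χ (f i))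
    choose ac rc hrc using fun i => hof (χ (cB i))
    obtain ⟨a₁, -, ha₁⟩ := exists_forall_le (Classical.arbitrary κ) (Sum.elim ag ac)
    let g₁ : ι → Ra a₁ := fun i => t (ag i) a₁ (ha₁ (Sum.inl i)) (rg i)
    let c₁ : ι → Ra a₁ := fun i => t (ac i) a₁ (ha₁ (Sum.inr i)) (rc i)
    have hsum₁ : DirectLimit.Ring.of Ra t a₁ (∑ i, c₁ i * g₁ i) = DirectLimit.Ring.of Ra t a₁ 1 := by
      rw [map_one, map_sum, ← map_one χ, ← hcB, map_sum]
      refine Finset.sum_congr rfl fun i _ => ?_
      rw [map_mul, map_mul, ← hrg, ← hrc]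
      simp only [g₁, c₁, DirectLimit.Ring.of_f]
    obtain ⟨a₀, ha, ha', hsum⟩ := exists_stage_eq hsum₁
    let g : ι → Ra a₀ := fun i => t a₁ a₀ ha (g₁ i)
    let cc : ι → Ra a₀ := fun i => t a₁ a₀ ha (c₁ i)
    have hc : ∑ i, cc i * g i = 1 := by
      rw [map_one] at hsum
      simpa [map_sum, map_mul, g, cc] using hsum
    have hg : ∀ i, DirectLimit.Ring.of Ra t a₀ (g i) = χ (f i) := fun i => by
      rw [← hrg]; simp only [g, g₁, DirectLimit.Ring.of_f]
    -- local maps
    have hloc : ∀ i, ∃ (T : DirectLimit Ra t →ₐ[A] SawLim I t (g i)) (b : Above a₀) (φ : H i →ₐ[A] SawAt I t (g i) b),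
        (∀ (b : Above a₀) (r : Ra b.1), T (DirectLimit.Ring.of Ra t b.1 r) =
          toLimA I t (g i) b (algebraMap (Ra b.1) (SawAt I t (g i) b) r)) ∧
        ∀ x, toLimA I t (g i) b (φ (algebraMap B (H i) x)) = T (χ x) := by
      intro i
      obtain ⟨T, hT⟩ := exists_toLim I t (g i) halg
      obtain ⟨θ, hθ⟩ := hlift i (SawLim I t (g i)) (T.comp χ) (by
        rw [AlgHom.comp_apply, ← hg, hT ⟨a₀, le_rfl⟩]
        exact IsUnit.map _ (isUnit_base I t (g i)))
      obtain ⟨b, φ, hφ⟩ := (hcol i (Above a₀) (SawAt I t (g i)) (sRing I t (g i)) (sRing_comp I t (g i))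
        (algebraMap_sawLim I t (g i))).1 θ
      exact ⟨T, b, φ, hT, fun x => (hφ _).trans (hθ x)⟩
    choose T b₀ φ₀ hT hφ₀ using hloc
    obtain ⟨b, -, hb⟩ := exists_forall_le (⟨a₀, le_rfl⟩ : Above a₀) b₀
    let φ : ∀ i, H i →ₐ[A] SawAt I t (g i) b := fun i => (sMap I t (g i) (b₀ i) b (hb i)).comp (φ₀ i)
    have hφ : ∀ i x, toLimA I t (g i) b (φ i (algebraMap B (H i) x)) = T i (χ x) := fun i x =>
      (DirectLimit.Ring.of_f (f := sRing I t (g i)) (hb i) _).trans (hφ₀ i x)
    -- compatibility on overlaps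
    have hpair : ∀ p : ι × ι, ∃ (d : Above a₀) (hd : b ≤ d), ∀ (μ : ∀ c, SawAt I t (g p.1) c →ₐ[A] SawAt I t (g p.1 * g p.2) c)
        (ν : ∀ c, SawAt I t (g p.2) c →ₐ[A] SawAt I t (g p.1 * g p.2) c),
        (∀ c r, μ c (algebraMap (Ra c.1) (SawAt I t (g p.1) c) r) = algebraMap (Ra c.1) _ r) →
        (∀ c r, ν c (algebraMap (Ra c.1) (SawAt I t (g p.2) c) r) = algebraMap (Ra c.1) _ r) →
        ∀ x, μ d (sMap I t (g p.1) b d hd (φ p.1 (algebraMap B (H p.1) x))) =
          ν d (sMap I t (g p.2) b d hd (φ p.2 (algebraMap B (H p.2) x))) := by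
      rintro ⟨i, j⟩
      obtain ⟨μ, hμr, hμs, M, hM⟩ := exists_res I t (g i) (g i * g j) (isUnit_left I t (g i) (g j))
      obtain ⟨ν, hνr, hνs, N, hN⟩ := exists_res I t (g j) (g i * g j) (isUnit_right I t (g i) (g j))
      obtain ⟨Tij, hTij⟩ := exists_toLim I t (g i * g j) halg
      have hMT : ∀ z, M (T i z) = Tij z := fun z => by
        induction z using DirectLimit.induction with
        | _ a r =>
          obtain ⟨c, hca, hc0⟩ := exists_ge_ge a a₀
          show M (T i (DirectLimit.Ring.of Ra t a r)) = Tij (DirectLimit.Ring.of Ra t a r)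
          rw [← DirectLimit.Ring.of_f (f := t) hca, hT i ⟨c, hc0⟩, hTij ⟨c, hc0⟩, hM, hμr]
          rfl
      have hNT : ∀ z, N (T j z) = Tij z := fun z => by
        induction z using DirectLimit.induction with
        | _ a r =>
          obtain ⟨c, hca, hc0⟩ := exists_ge_ge a a₀
          show N (T j (DirectLimit.Ring.of Ra t a r)) = Tij (DirectLimit.Ring.of Ra t a r)
          rw [← DirectLimit.Ring.of_f (f := t) hca, hT j ⟨c, hc0⟩, hTij ⟨c, hc0⟩, hN, hνr]
          rfl
      let o := toLimA I t (g i * g j)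
      have hp : ∀ x, o b (μ b (φ i (algebraMap B (H i) x))) = Tij (χ x) := fun x => by
        rw [← hM, hφ, hMT]
      have hq : ∀ x, o b (ν b (φ j (algebraMap B (H j) x))) = Tij (χ x) := fun x => by
        rw [← hN, hφ, hNT]
      obtain ⟨c, hbc, hbc', hceq⟩ := exists_stage_eq (t := sRing I t (g i * g j))
        (a := b) (b := b) (x := ν b (φ j (algebraMap B (H j) (f i))))
        (y := algebraMap (Ra b.1) _ (gAt t (g i) b)) (by
          refine (hq (f i)).trans ?_
          rw [← hg, ← DirectLimit.Ring.of_f (f := t) b.2, hTij b])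
      let q : B →ₐ[A] SawAt I t (g i * g j) c :=
        ((sMap I t (g i * g j) b c hbc).comp ((ν b).comp (φ j))).comp (IsScalarTower.toAlgHom A B (H j))
      obtain ⟨ψ, hψ⟩ := hlift i _ q (by
        show IsUnit (sMap I t (g i * g j) b c hbc (ν b (φ j (algebraMap B (H j) (f i)))))
        rw [show sMap I t (g i * g j) b c hbc (ν b (φ j (algebraMap B (H j) (f i)))) = _ from hceq]
        exact (isUnit_left I t (g i) (g j) b).map _)
      let p : H i →ₐ[A] SawAt I t (g i * g j) c := (sMap I t (g i * g j) b c hbc).comp ((μ b).comp (φ i))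
      have hlim : (o c).comp p = (o c).comp ψ := hext i _ _ _ fun x => by
        show o c (p _) = o c (ψ _)
        rw [hψ]
        exact ((DirectLimit.Ring.of_f (f := sRing I t (g i * g j)) hbc _).trans (hp x)).trans
          ((DirectLimit.Ring.of_f (f := sRing I t (g i * g j)) hbc _).trans (hq x)).symm
      obtain ⟨d, hcd, hd⟩ := (hcol i (Above a₀) (SawAt I t (g i * g j)) (sRing I t (g i * g j))
        (sRing_comp I t (g i * g j)) (algebraMap_sawLim I t (g i * g j))).2 c p ψ (AlgHom.congr_fun hlim)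
      refine ⟨d, hbc.trans hcd, fun μ' ν' hμ' hν' x => ?_⟩
      have eμ : μ' d = μ d := saw_hom_ext I _ fun r => (hμ' d r).trans (hμr d r).symm
      have eν : ν' d = ν d := saw_hom_ext I _ fun r => (hν' d r).trans (hνr d r).symm
      rw [eμ, eν, hμs, hνs]
      have h1 := hd (algebraMap B (H i) x)
      rw [hψ] at h1
      exact ((DirectedSystem.map_map (f := fun a b hab => sRing I t (g i * g j) a b hab) hbc hcd _).symm.trans h1).trans
        (DirectedSystem.map_map (f := fun a b hab => sRing I t (g i * g j) a b hab) hbc hcd _)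
    choose d₀ hd₀ hpair using hpair
    obtain ⟨d, hbd, hd⟩ := exists_forall_le b d₀
    let s : ∀ i, B → SawAt I t (g i) d := fun i x => sMap I t (g i) b d hbd (φ i (algebraMap B (H i) x))
    have hs : ∀ x, ∃ y : Ra d.1, ∀ i, algebraMap (Ra d.1) (SawAt I t (g i) d) y = s i x := by
      intro x
      obtain ⟨y, hy, -⟩ := HGlue.existsUnique (A := Ra d.1) (M := Ra d.1) (I := I.map (algebraMap A (Ra d.1)))
        (fun i => gAt t (g i) d) (fun i => SawAt I t (g i) d) (fun i => isHensAway I _) (hspan g cc hc d)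
        (fun i => s i x ⊗ₜ[Ra d.1] (1 : Ra d.1)) (fun i j => by
          obtain ⟨μ, hμ, hμs, -⟩ := exists_res I t (g i) (g i * g j) (isUnit_left I t (g i) (g j))
          obtain ⟨ν, hν, hνs, -⟩ := exists_res I t (g j) (g i * g j) (isUnit_right I t (g i) (g j))
          refine ⟨SawAt I t (g i * g j) d, inferInstance, inferInstance,
            by rw [← map_mul]; exact isHensAway I (gAt t (g i * g j) d),
            { (μ d : SawAt I t (g i) d →+* SawAt I t (g i * g j) d) with commutes' := hμ d },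
            { (ν d : SawAt I t (g j) d →+* SawAt I t (g i * g j) d) with commutes' := hν d }, ?_⟩
          show μ d (s i x) ⊗ₜ[Ra d.1] (1 : Ra d.1) = ν d (s j x) ⊗ₜ[Ra d.1] 1
          congr 1
          have h := congrArg (sMap I t (g i * g j) (d₀ (i, j)) d (hd (i, j))) (hpair (i, j) μ ν hμ hν x)
          rw [← hμs, ← hνs] at h
          refine Eq.trans ?_ (h.trans ?_)
          · exact congrArg (μ d) (DirectedSystem.map_map (f := fun a b hab => sRing I t (g i) a b hab)
              (hd₀ (i, j)) (hd (i, j)) _).symm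
          · exact congrArg (ν d) (DirectedSystem.map_map (f := fun a b hab => sRing I t (g j) a b hab)
              (hd₀ (i, j)) (hd (i, j)) _))
      refine ⟨y, fun i => ?_⟩
      have h := congrArg (TensorProduct.rid (Ra d.1) (SawAt I t (g i) d)) (hy i)
      simpa [Algebra.smul_def] using h
    choose y hy using hs
    have hu := fun z z' => huniq g cc hc d z z'
    let Φ : B →+* Ra d.1 :=
      { toFun := y
        map_one' := hu _ _ fun i => by rw [hy, map_one]; simp [s]
        map_mul' := fun x x' => hu _ _ fun i => by rw [hy, map_mul, hy, hy]; simp [s]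
        map_zero' := hu _ _ fun i => by rw [hy, map_zero]; simp [s]
        map_add' := fun x x' => hu _ _ fun i => by rw [hy, map_add, hy, hy]; simp [s] }
    refine ⟨d.1, { Φ with commutes' := fun a => hu _ _ fun i => ?_ }, fun x => ?_⟩
    · show algebraMap _ (SawAt I t (g i) d) (y (algebraMap A B a)) = _
      rw [hy, ← IsScalarTower.algebraMap_apply A (Ra d.1) (SawAt I t (g i) d)]
      simp only [s, ← IsScalarTower.algebraMap_apply A B (H i), AlgHom.commutes]
    · show DirectLimit.Ring.of Ra t d.1 (y x) = χ x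
      obtain ⟨a, r, hr⟩ := hof (χ x)
      obtain ⟨e₀, hde₀, hae₀⟩ := exists_ge_ge d.1 a
      let e : Above a₀ := ⟨e₀, d.2.trans hde₀⟩
      have hde : d ≤ e := hde₀
      let r' : Ra e.1 := t a e.1 hae₀ r
      have hr' : DirectLimit.Ring.of Ra t e.1 r' = χ x := by rw [← hr]; exact DirectLimit.Ring.of_f (f := t) hae₀ r
      have heq : ∀ i, ∃ (e' : Above a₀) (h : e ≤ e'),
          sMap I t (g i) e e' h (algebraMap (Ra e.1) (SawAt I t (g i) e) (t d.1 e.1 hde (y x))) =
            sMap I t (g i) e e' h (algebraMap (Ra e.1) (SawAt I t (g i) e) r') := by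
        intro i
        obtain ⟨e', h, h', he'⟩ := exists_stage_eq (t := sRing I t (g i)) (a := e) (b := e)
          (x := algebraMap (Ra e.1) (SawAt I t (g i) e) (t d.1 e.1 hde (y x)))
          (y := algebraMap (Ra e.1) (SawAt I t (g i) e) r') (by
            rw [← sMap_algebraMap I t (g i) d e hde, hy]
            refine (DirectLimit.Ring.of_f (f := sRing I t (g i)) hde _).trans ?_
            refine ((DirectLimit.Ring.of_f (f := sRing I t (g i)) hbd _).trans (hφ i x)).trans ?_
            rw [← hr', hT i e]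
            rfl)
        exact ⟨e', h, he'⟩
      choose e' he' heq using heq
      obtain ⟨k, hek, hk⟩ := exists_forall_le e e'
      have hfin : t e.1 k.1 hek (t d.1 e.1 hde (y x)) = t e.1 k.1 hek r' := huniq g cc hc k _ _ fun i => by
        have h1 := congrArg (sMap I t (g i) (e' i) k (hk i)) (heq i)
        rw [sMap_algebraMap, sMap_algebraMap, sMap_algebraMap, sMap_algebraMap] at h1
        have hm : ∀ z, t (e' i).1 k.1 (hk i) (t e.1 (e' i).1 (he' i) z) = t e.1 k.1 hek z := fun z =>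
          DirectedSystem.map_map (f := fun a b hab => t a b hab) (he' i) (hk i) z
        rwa [hm, hm] at h1
      rw [← hr', ← DirectLimit.Ring.of_f (f := t) hde, ← DirectLimit.Ring.of_f (f := t) hek, hfin,
        DirectLimit.Ring.of_f (f := t) hek]
  · obtain ⟨cB, hcB⟩ := Ideal.mem_span_range_iff_exists_fun.1 (hf ▸ Submodule.mem_top : (1 : B) ∈ Ideal.span (Set.range f))
    choose b₁ hb₁ hb₁' heq₁ using fun i => exists_stage_eq (hφψ (f i))
    obtain ⟨b, hab, hb⟩ := exists_forall_le a b₁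
    have hfb : ∀ i, t a b hab (φ (f i)) = t a b hab (ψ (f i)) := fun i => by
      have := congrArg (t (b₁ i) b (hb i)) (heq₁ i)
      have hm : ∀ (h : a ≤ b₁ i) z, t (b₁ i) b (hb i) (t a (b₁ i) h z) = t a b hab z := fun h z =>
        DirectedSystem.map_map (f := fun a b hab => t a b hab) h (hb i) z
      rwa [hm, hm] at this
    let g : ι → Ra b := fun i => t a b hab (φ (f i))
    let cc : ι → Ra b := fun i => t a b hab (φ (cB i))
    have hc : ∑ i, cc i * g i = 1 := by
      rw [← map_one (t a b hab), ← map_one φ, ← hcB]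
      simp [g, cc, map_sum, map_mul]
    let e : Above b := ⟨b, le_rfl⟩
    have hloc : ∀ i, ∃ (d : Above b), ∀ x,
        algebraMap (Ra d.1) (SawAt I t (g i) d) (t a d.1 (hab.trans d.2) (φ x)) =
          algebraMap (Ra d.1) (SawAt I t (g i) d) (t a d.1 (hab.trans d.2) (ψ x)) := by
      intro i
      let P : B →ₐ[A] SawAt I t (g i) e :=
        (IsScalarTower.toAlgHom A (Ra b) (SawAt I t (g i) e)).comp ((tA t a b hab).comp φ)
      let Q : B →ₐ[A] SawAt I t (g i) e :=
        (IsScalarTower.toAlgHom A (Ra b) (SawAt I t (g i) e)).comp ((tA t a b hab).comp ψ)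
      have hge : IsUnit (algebraMap (Ra b) (SawAt I t (g i) e) (g i)) := isUnit_base I t (g i)
      obtain ⟨P', hP'⟩ := hlift i _ P hge
      obtain ⟨Q', hQ'⟩ := hlift i _ Q (by
        show IsUnit (algebraMap (Ra b) (SawAt I t (g i) e) (t a b hab (ψ (f i))))
        rw [← hfb]; exact hge)
      obtain ⟨T, hT⟩ := exists_toLim I t (g i) halg
      have hlim : (toLimA I t (g i) e).comp P' = (toLimA I t (g i) e).comp Q' := hext i _ _ _ fun x => by
        rw [AlgHom.comp_apply, AlgHom.comp_apply, hP', hQ']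
        refine (hT e _).symm.trans (Eq.trans ?_ (hT e _))
        show T (DirectLimit.Ring.of Ra t b (t a b hab (φ x))) = T (DirectLimit.Ring.of Ra t b (t a b hab (ψ x)))
        rw [DirectLimit.Ring.of_f, DirectLimit.Ring.of_f, hφψ]
      obtain ⟨d, hed, hd⟩ := (hcol i (Above b) (SawAt I t (g i)) (sRing I t (g i))
        (sRing_comp I t (g i)) (algebraMap_sawLim I t (g i))).2 e P' Q' (AlgHom.congr_fun hlim)
      refine ⟨d, fun x => ?_⟩
      have h1 := hd (algebraMap B (H i) x)
      rw [hP', hQ'] at h1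
      change sMap I t (g i) e d hed (algebraMap (Ra b) _ (t a b hab (φ x))) =
        sMap I t (g i) e d hed (algebraMap (Ra b) _ (t a b hab (ψ x))) at h1
      rw [sMap_algebraMap, sMap_algebraMap] at h1
      have hm : ∀ z, t b d.1 hed (t a b hab z) = t a d.1 (hab.trans d.2) z := fun z =>
        DirectedSystem.map_map (f := fun a b hab => t a b hab) hab hed z
      rwa [hm, hm] at h1
    choose d₁ hd₁ using hloc
    obtain ⟨k, -, hk⟩ := exists_forall_le e d₁
    refine ⟨k.1, hab.trans k.2, fun x => huniq g cc hc k _ _ fun i => ?_⟩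
    have h1 := congrArg (sMap I t (g i) (d₁ i) k (hk i)) (hd₁ i x)
    rw [sMap_algebraMap, sMap_algebraMap] at h1
    have hm : ∀ z, t (d₁ i).1 k.1 (hk i) (t a (d₁ i).1 (hab.trans (d₁ i).2) z) = t a k.1 (hab.trans k.2) z := fun z =>
      DirectedSystem.map_map (f := fun a b hab => t a b hab) (hab.trans (d₁ i).2) (hk i) z
    rwa [hm, hm] at h1

end Groth.Agent.HensSch7.HfpLocal
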