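import Groth.Agent.Hensel.PairHenzLimit
import Groth.Agent.Hensel.HfpColimit
import Groth.Agent.HensSch7.HGlue.Main

/-!
Henselized localizations along a directed system of henselian algebras.
-/

set_option autoImplicit false
set_option linter.style.haveILetI false
universe u

namespace Groth.Agent.HensSch7.HfpLocal

open Hensel

variable {A : Type u} [CommRing A] (I : Ideal A)

section one

variable {R : Type u} [CommRing R] [Algebra A R] (g : R)

/-- the henselized localization of an `A`-algebra -/
def Saw : Type u := PairHenz (Localization.Away g) ((I.map (algebraMap A R)).map (algebraMap R (Localization.Away g)))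

noncomputable instance instRing : CommRing (Saw I g) :=
  inferInstanceAs (CommRing (PairHenz (Localization.Away g) ((I.map (algebraMap A R)).map (algebraMap R (Localization.Away g)))))

noncomputable instance instAlgL : Algebra (Localization.Away g) (Saw I g) :=
  inferInstanceAs (Algebra (Localization.Away g)
    (PairHenz (Localization.Away g) ((I.map (algebraMap A R)).map (algebraMap R (Localization.Away g)))))

noncomputable instance instAlgR : Algebra R (Saw I g) :=
  Algebra.compHom (Saw I g) (algebraMap R (Localization.Away g))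

noncomputable instance instAlgA : Algebra A (Saw I g) :=
  Algebra.compHom (Saw I g) ((algebraMap R (Localization.Away g)).comp (algebraMap A R))

instance instTower : IsScalarTower A R (Saw I g) := IsScalarTower.of_algebraMap_eq' rfl

theorem isHensAway : HensSch.IsHensAway R (I.map (algebraMap A R)) g (Saw I g) (algebraMap R (Saw I g)) := by
  have h : Hens2.IsPairHenselization (Localization.Away g)
      ((I.map (algebraMap A R)).map (algebraMap R (Localization.Away g))) (Saw I g) :=
    isPairHenselization_pairHenz (Localization.Away g) ((I.map (algebraMap A R)).map (algebraMap R (Localization.Away g)))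
  have hφ : algebraMap R (Saw I g) = (algebraMap (Localization.Away g) (Saw I g)).comp (algebraMap R (Localization.Away g)) :=
    rfl
  refine ⟨?_, ?_, fun C _ J f hC hJ hu => ?_⟩
  · rw [hφ]
    exact RingHom.isUnit_map (algebraMap (Localization.Away g) (Saw I g))
      (IsLocalization.Away.algebraMap_isUnit (S := Localization.Away g) g)
  · have := h.1
    rwa [Ideal.map_map, ← hφ] at this
  · obtain ⟨θ, hθ, hθu⟩ := h.2 C J (IsLocalization.Away.lift (S := Localization.Away g) g hu) hC
      (by rw [Ideal.map_map, IsLocalization.Away.lift_comp]; exact hJ)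
    refine ⟨θ, ?_, fun h' hh' => hθu h' (IsLocalization.ringHom_ext (Submonoid.powers g) ?_)⟩
    · show θ.comp (algebraMap R (Saw I g)) = f
      rw [hφ, ← RingHom.comp_assoc, hθ, IsLocalization.Away.lift_comp]
    · rw [RingHom.comp_assoc, ← hφ, IsLocalization.Away.lift_comp]
      exact hh'

instance henselian_saw : HenselianRing (Saw I g) (I.map (algebraMap A (Saw I g))) := by
  have h := (isHensAway I g).2.1
  rwa [Ideal.map_map, ← IsScalarTower.algebraMap_eq] at h

theorem isUnit_saw : IsUnit (algebraMap R (Saw I g) g) := (isHensAway I g).1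

variable {C : Type u} [CommRing C] [Algebra A C] [HenselianRing C (I.map (algebraMap A C))]

theorem existsUnique_saw (f : R →ₐ[A] C) (hu : IsUnit (f g)) :
    ∃! h : Saw I g →ₐ[A] C, ∀ r, h (algebraMap R (Saw I g) r) = f r := by
  obtain ⟨h, hh, huniq⟩ := (isHensAway I g).2.2 C (I.map (algebraMap A C)) (f : R →+* C) inferInstance
    (by rw [Ideal.map_map, AlgHom.comp_algebraMap]) hu
  have hc : ∀ a, h (algebraMap A (Saw I g) a) = algebraMap A C a := fun a => by
    rw [IsScalarTower.algebraMap_apply A R (Saw I g)]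
    exact (congr($hh (algebraMap A R a))).trans (f.commutes a)
  exact ⟨{ h with commutes' := hc }, fun r => congr($hh r),
    fun h' hh' => AlgHom.coe_ringHom_injective (huniq h' (RingHom.ext hh'))⟩

theorem saw_hom_ext {h h' : Saw I g →ₐ[A] C}
    (e : ∀ r, h (algebraMap R (Saw I g) r) = h' (algebraMap R (Saw I g) r)) : h = h' :=
  (existsUnique_saw I g (h.comp (IsScalarTower.toAlgHom A R (Saw I g))) ((isUnit_saw I g).map h)).unique
    (fun _ => rfl) fun r => (e r).symm

end one

section sys

variable {κ : Type u} [Preorder κ] [IsDirectedOrder κ] [Nonempty κ]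
  {Ra : κ → Type u} [∀ a, CommRing (Ra a)] [∀ a, Algebra A (Ra a)]
  (t : ∀ a b : κ, a ≤ b → (Ra a →+* Ra b)) [DirectedSystem Ra (fun a b hab => t a b hab)]
  [Fact (∀ (a b : κ) (hab : a ≤ b), (t a b hab).comp (algebraMap A (Ra a)) = algebraMap A (Ra b))]
  {a₀ : κ} (g₀ : Ra a₀)

/-- the indices above `a₀` -/
abbrev Above (a₀ : κ) : Type u := {a : κ // a₀ ≤ a}

instance : IsDirectedOrder (Above a₀) := ⟨fun a b => by
  obtain ⟨c, hac, hbc⟩ := exists_ge_ge a.1 b.1
  exact ⟨⟨c, a.2.trans hac⟩, hac, hbc⟩⟩

instance : Nonempty (Above a₀) := ⟨⟨a₀, le_rfl⟩⟩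

/-- the transition maps over `A` -/
def tA (a b : κ) (h : a ≤ b) : Ra a →ₐ[A] Ra b :=
  { t a b h with commutes' := fun x => congr($((Fact.out : ∀ (a b : κ) (hab : a ≤ b), (t a b hab).comp (algebraMap A (Ra a)) = algebraMap A (Ra b)) a b h) x) }

/-- the element at a stage -/
abbrev gAt (a : Above a₀) : Ra a.1 := t a₀ a.1 a.2 g₀

theorem gAt_map (a b : Above a₀) (h : a ≤ b) : t a.1 b.1 h (gAt t g₀ a) = gAt t g₀ b :=
  DirectedSystem.map_map (f := fun a b hab => t a b hab) a.2 h g₀

/-- the stagewise henselized localizations -/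
abbrev SawAt (a : Above a₀) : Type u := Saw I (gAt t g₀ a)

/-- transition maps -/
noncomputable def sMap (a b : Above a₀) (h : a ≤ b) : SawAt I t g₀ a →ₐ[A] SawAt I t g₀ b :=
  (existsUnique_saw I (gAt t g₀ a)
    ((IsScalarTower.toAlgHom A (Ra b.1) (SawAt I t g₀ b)).comp (tA t a.1 b.1 h)) (by
      show IsUnit (algebraMap (Ra b.1) (SawAt I t g₀ b) (t a.1 b.1 h (gAt t g₀ a)))
      rw [gAt_map]
      exact isUnit_saw I _)).choose

theorem sMap_algebraMap (a b : Above a₀) (h : a ≤ b) (r : Ra a.1) :
    sMap I t g₀ a b h (algebraMap (Ra a.1) (SawAt I t g₀ a) r) =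
      algebraMap (Ra b.1) (SawAt I t g₀ b) (t a.1 b.1 h r) :=
  (existsUnique_saw I (gAt t g₀ a)
    ((IsScalarTower.toAlgHom A (Ra b.1) (SawAt I t g₀ b)).comp (tA t a.1 b.1 h)) (by
      show IsUnit (algebraMap (Ra b.1) (SawAt I t g₀ b) (t a.1 b.1 h (gAt t g₀ a)))
      rw [gAt_map]
      exact isUnit_saw I _)).choose_spec.1 r

/-- the same as ring maps -/
noncomputable abbrev sRing (a b : Above a₀) (h : a ≤ b) : SawAt I t g₀ a →+* SawAt I t g₀ b := sMap I t g₀ a b h

instance : DirectedSystem (SawAt I t g₀) (fun a b hab => sRing I t g₀ a b hab) where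
  map_self a x := by
    have : sMap I t g₀ a a le_rfl = AlgHom.id A _ := saw_hom_ext I _ fun r => by
      rw [sMap_algebraMap, DirectedSystem.map_self (f := fun a b hab => t a b hab) r]; rfl
    exact AlgHom.congr_fun this x
  map_map c b a hab hbc x := by
    have : (sMap I t g₀ b c hbc).comp (sMap I t g₀ a b hab) = sMap I t g₀ a c (hab.trans hbc) :=
      saw_hom_ext I _ fun r => by
        rw [AlgHom.comp_apply, sMap_algebraMap, sMap_algebraMap, sMap_algebraMap]
        exact congrArg _ (DirectedSystem.map_map (f := fun a b hab => t a b hab) hab hbc r)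
    exact AlgHom.congr_fun this x

/-- the limit of the henselized localizations -/
abbrev SawLim : Type u := DirectLimit (SawAt I t g₀) (sRing I t g₀)

noncomputable instance instAlgLim : Algebra A (SawLim I t g₀) :=
  ((DirectLimit.Ring.of (SawAt I t g₀) (sRing I t g₀) ⟨a₀, le_rfl⟩).comp
    (algebraMap A (SawAt I t g₀ ⟨a₀, le_rfl⟩))).toAlgebra

theorem sRing_comp (a b : Above a₀) (h : a ≤ b) :
    (sRing I t g₀ a b h).comp (algebraMap A (SawAt I t g₀ a)) = algebraMap A (SawAt I t g₀ b) :=
  (sMap I t g₀ a b h).comp_algebraMap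

theorem algebraMap_sawLim (a : Above a₀) (x : A) :
    algebraMap A (SawLim I t g₀) x =
      DirectLimit.Ring.of (SawAt I t g₀) (sRing I t g₀) a (algebraMap A (SawAt I t g₀ a) x) :=
  algebraMap_directLimit (sRing_comp I t g₀) ⟨a₀, le_rfl⟩ a x

instance henselian_sawLim : HenselianRing (SawLim I t g₀) (I.map (algebraMap A (SawLim I t g₀))) := by
  have h := henselianRing_directLimit' (f := sRing I t g₀) (fun a => I.map (algebraMap A (SawAt I t g₀ a)))
    (fun a b hab => by rw [Ideal.map_map, sRing_comp]) (fun a => henselian_saw I _)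
  convert h using 1
  have e : ∀ a : Above a₀, (I.map (algebraMap A (SawAt I t g₀ a))).map
      (DirectLimit.Ring.of (SawAt I t g₀) (sRing I t g₀) a) = I.map (algebraMap A (SawLim I t g₀)) := fun a => by
    rw [Ideal.map_map]
    congr 1
    exact RingHom.ext fun x => (algebraMap_sawLim I t g₀ a x).symm
  simp only [e, iSup_const]

end sys

end Groth.Agent.HensSch7.HfpLocal
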